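import Mathlib
import Groth.Agent.S0468
import Groth.Agent.Lib.Helper13.ModSheafBasic
import Groth.Agent.Lib.Helper5.CoContCoh
import Groth.Agent.Lib.Helper7.MulSurj

/-!
# Cohomology of a directed colimit of `O_X`-modules on a qcqs scheme: joint surjectivity
-/

set_option autoImplicit false
set_option linter.style.haveILetI false

universe u

open CategoryTheory CategoryTheory.Limits AlgebraicGeometry Opposite TopologicalSpace

namespace Groth.Agent.Lib.Helper2.QcohExt

open Groth.Agent.Lib.Helper7.MulSurj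

section Top

variable (T : TopCat.{u})

/-- the constant sheaf `ℤ` -/
noncomputable abbrev constZ : CohTop.Ab T :=
  (constantSheaf (Opens.grothendieckTopology T) AddCommGrpCat.{u}).obj
    (AddCommGrpCat.of (ULift.{u} ℤ))

/-- `H^r(T, -)` as a functor -/
noncomputable abbrev HF (r : ℕ) : CohTop.Ab T ⥤ AddCommGrpCat.{u} :=
  (Abelian.extFunctor r).obj (op (constZ T))

/-- the functor `H^r(⊤, -)` of Mathlib -/
noncomputable abbrev HG (r : ℕ) : CohTop.Ab T ⥤ AddCommGrpCat.{u} :=
  (Sheaf.cohomologyPresheafFunctor (Opens.grothendieckTopology T) r).flip.obj (op (⊤ : Opens T))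

noncomputable def HGIso (r : ℕ) : HG T r ≅ HF T r :=
  (Abelian.extFunctor r).mapIso
    (Groth.Agent.Lib.Helper5.CoContCoh.constIsoFreeSheaf (Opens.grothendieckTopology T)
      (T := (⊤ : Opens T)) isTerminalTop).op

theorem preserves_HF [PrespectralSpace T] [QuasiSeparatedSpace T] [CompactSpace T]
    (ι : Type u) [Preorder ι] [IsDirected ι (· ≤ ·)] [Nonempty ι] (r : ℕ) :
    PreservesColimitsOfShape ι (HF T r) := by
  haveI : PreservesColimitsOfShape ι (HG T r) :=
    Groth.Agent.S0468.result (X := T) (⊤ : Opens T) (by simpa using isCompact_univ) ι r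
  exact preservesColimitsOfShape_of_natIso (HGIso T r)

end Top

section Scheme

variable {X : Scheme.{u}} [CompactSpace X] [QuasiSeparatedSpace X]

/-- on a qcqs scheme, every class in `H^r` of a directed colimit of modules comes from a stage. -/
theorem exists_rep_H {ι : Type u} [Preorder ι] [IsDirected ι (· ≤ ·)] [Nonempty ι]
    (D : ι ⥤ X.Modules) (c : Cocone D) (hc : IsColimit c) (r : ℕ) (x : Coh.HH X c.pt r) :
    ∃ (j : ι) (y : Coh.HH X (D.obj j) r), Hm (c.ι.app j) r y = x := by
  haveI : PrespectralSpace ↑X.toTopCat := inferInstanceAs (PrespectralSpace X)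
  haveI : QuasiSeparatedSpace ↑X.toTopCat := inferInstanceAs (QuasiSeparatedSpace X)
  haveI : CompactSpace ↑X.toTopCat := inferInstanceAs (CompactSpace X)
  haveI : PreservesColimitsOfShape ι (HF X.toTopCat r) := preserves_HF X.toTopCat ι r
  haveI : PreservesColimitsOfShape ι (SheafOfModules.toSheaf.{u} X.ringCatSheaf) :=
    Groth.Agent.Lib.Helper13.ModSheafBasic.toSheaf_preservesColimitsOfShape _ _
  have h1 : IsColimit ((SheafOfModules.toSheaf.{u} X.ringCatSheaf ⋙ HF X.toTopCat r).mapCocone c) :=
    isColimitOfPreserves _ hc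
  obtain ⟨j, y, hy⟩ := Concrete.isColimit_exists_rep _ h1 x
  exact ⟨j, y, hy⟩

end Scheme

end Groth.Agent.Lib.Helper2.QcohExt
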