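import Mathlib
import Groth.Agent.S9819
import Groth.Agent.Lib.Helper3.ModBasis
import Groth.Agent.Lib.Helper3.QCLim
import Groth.Agent.Lib.Helper3.QCProps
import Groth.Agent.Lib.Helper17.DevPow
import Groth.Agent.Lib.Helper17.DevBasic
import Groth.Agent.Lib.Helper13.ModGrothendieck

/-!
# A quasi-coherent module on a qcqs scheme is the directed colimit of its finite-type
quasi-coherent subobjects (indexed by finite sets of local sections)
-/

set_option autoImplicit false
set_option linter.style.haveILetI false

universe u

open CategoryTheory CategoryTheory.Limits AlgebraicGeometry Opposite TopologicalSpace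

namespace Groth.Agent.Lib.Helper2.QcohExt

open Groth.Agent.Lib.Helper3 Groth.Agent.Lib.Helper17

section Abelian

variable {C : Type*} [Category C] [Abelian C]

theorem sup_eq_imageSubobject {F : C} (A B : Subobject F) :
    A ⊔ B = imageSubobject (biprod.desc A.arrow B.arrow) := by
  apply le_antisymm
  · apply sup_le
    · exact Subobject.le_of_comm (biprod.inl ≫ factorThruImageSubobject _) (by simp)
    · exact Subobject.le_of_comm (biprod.inr ≫ factorThruImageSubobject _) (by simp)
  · exact imageSubobject_le _
      (biprod.desc (Subobject.ofLE _ _ le_sup_left) (Subobject.ofLE _ _ le_sup_right))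
      (by ext <;> simp)

end Abelian

variable {X : Scheme.{u}}

theorem isCoh_sup {F : X.Modules} [F.IsQuasicoherent] (A B : Subobject F)
    (hA : Coh.IsCoh (A : X.Modules)) (hB : Coh.IsCoh (B : X.Modules)) :
    Coh.IsCoh ((A ⊔ B : Subobject F) : X.Modules) := by
  have hAB : Coh.IsCoh ((A : X.Modules) ⊞ (B : X.Modules) : X.Modules) :=
    DevPow.isCoh_biprod _ _ hA hB
  haveI := hAB.1
  let f : ((A : X.Modules) ⊞ (B : X.Modules) : X.Modules) ⟶ F := biprod.desc A.arrow B.arrow
  have hq : (Abelian.image f : X.Modules).IsQuasicoherent := QCLim.isQuasicoherent_image f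
  have h1 : Coh.IsCoh (Abelian.image f : X.Modules) :=
    DevBasic.isCoh_of_epi (Abelian.factorThruImage f) hAB hq
  have e : (Abelian.image f : X.Modules) ≅ ((A ⊔ B : Subobject F) : X.Modules) :=
    Abelian.imageIsoImage f ≪≫ (imageSubobjectIso f).symm ≪≫
      Subobject.isoOfEq _ _ (sup_eq_imageSubobject A B).symm
  exact DevBasic.isCoh_of_iso e h1

section System

variable (F : X.Modules) [F.IsQuasicoherent] [CompactSpace X] [QuasiSeparatedSpace X]

/-- the index type: local sections over affine opens -/
abbrev Idx : Type u := Σ V : X.affineOpens, Γ(F, V.1)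

theorem exists_sub (a : Idx F) : ∃ B : Subobject F, Coh.IsCoh (B : X.Modules) ∧
    ∃ g : Γ((B : X.Modules), a.1.1), B.arrow.app a.1.1 g = a.2 := by
  obtain ⟨G, i, hi, hq, hft, g, hg⟩ := Groth.Agent.S9819.result F a.1 a.2
  haveI := hi
  refine ⟨Subobject.mk i, DevBasic.isCoh_of_iso (Subobject.underlyingIso i).symm ⟨hq, hft⟩,
    (Subobject.underlyingIso i).inv.app a.1.1 g, ?_⟩
  have h := Subobject.underlyingIso_arrow i
  have h2 := congrArg (fun φ => Scheme.Modules.Hom.app φ a.1.1 g) h
  exact h2.trans hg

/-- a chosen coherent subobject through the section `a` -/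
noncomputable def sub (a : Idx F) : Subobject F := (exists_sub F a).choose

theorem isCoh_sub (a : Idx F) : Coh.IsCoh (sub F a : X.Modules) := (exists_sub F a).choose_spec.1

theorem exists_sec_sub (a : Idx F) :
    ∃ g : Γ((sub F a : X.Modules), a.1.1), (sub F a).arrow.app a.1.1 g = a.2 :=
  (exists_sub F a).choose_spec.2

open Classical in
/-- the coherent subobject generated by a finite set of sections -/
noncomputable def P (S : Finset (Idx F)) : Subobject F := S.sup (sub F)

theorem P_mono : Monotone (P F) := fun _ _ h => Finset.sup_mono h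

theorem isCoh_P (S : Finset (Idx F)) : Coh.IsCoh (P F S : X.Modules) := by
  classical
  induction S using Finset.induction_on with
  | empty =>
    have : P F ∅ = ⊥ := Finset.sup_empty
    rw [this]
    exact DevBasic.isCoh_of_isZero (IsZero.of_iso (isZero_zero _) Subobject.botCoeIsoZero)
  | insert a S _ ih =>
    have : P F (insert a S) = sub F a ⊔ P F S := Finset.sup_insert
    rw [this]
    exact isCoh_sup _ _ (isCoh_sub F a) ih

/-- the directed system of coherent subobjects -/
noncomputable def D : Finset (Idx F) ⥤ X.Modules := (P_mono F).functor ⋙ Subobject.underlying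

theorem isCoh_D (S : Finset (Idx F)) : Coh.IsCoh ((D F).obj S) := isCoh_P F S

/-- the cocone to `F` -/
noncomputable def cocone : Cocone (D F) where
  pt := F
  ι :=
    { app := fun S => (P F S).arrow
      naturality := fun S T f => by
        dsimp [D]
        rw [Category.comp_id]
        exact Subobject.underlying_arrow _ }

instance (S : Finset (Idx F)) : Mono ((cocone F).ι.app S) := by
  change Mono (P F S).arrow
  infer_instance

theorem nonempty_isColimit : Nonempty (IsColimit (cocone F)) := by
  classical
  haveI : IsGrothendieckAbelian.{u} X.Modules :=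
    Groth.Agent.Lib.Helper13.ModGrothendieck.isGrothendieckAbelian X.ringCatSheaf
  let δ : colimit (D F) ⟶ F := colimit.desc (D F) (cocone F)
  haveI : Mono (cocone F).ι := NatTrans.mono_of_mono_app _
  haveI hm : Mono δ :=
    colim.map_mono' (cocone F).ι (colimit.isColimit _) (isColimitConstCocone _ F) δ
      (fun j => by
        change colimit.ι (D F) j ≫ colimit.desc (D F) (cocone F) = (cocone F).ι.app j ≫ 𝟙 F
        rw [colimit.ι_desc]
        exact (Category.comp_id _).symm)
  haveI he : Epi δ := by
    apply ModBasis.epi_of_surjective_on_basis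
    intro W x hx
    obtain ⟨V, hV, hxV, hVW⟩ := (Opens.isBasis_iff_nbhd.mp X.isBasis_affineOpens) hx
    refine ⟨V, hxV, hVW, fun s => ?_⟩
    let a : Idx F := ⟨⟨V, hV⟩, s⟩
    obtain ⟨g, hg⟩ := exists_sec_sub F a
    have hle : sub F a ≤ P F {a} := by
      have : P F {a} = sub F a := Finset.sup_singleton
      rw [this]
    refine ⟨(colimit.ι (D F) {a}).app V ((Subobject.ofLE _ _ hle).app V g), ?_⟩
    have h1 : colimit.ι (D F) {a} ≫ δ = (P F {a}).arrow := colimit.ι_desc _ _
    have h2 : Subobject.ofLE _ _ hle ≫ (P F {a}).arrow = (sub F a).arrow :=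
      Subobject.ofLE_arrow hle
    have h3 : (Subobject.ofLE _ _ hle ≫ colimit.ι (D F) {a}) ≫ δ = (sub F a).arrow :=
      (Category.assoc _ _ _).trans ((congrArg (fun φ => Subobject.ofLE _ _ hle ≫ φ) h1).trans h2)
    have h4 := congrArg (fun φ => Scheme.Modules.Hom.app φ V g) h3
    exact h4.trans hg
  haveI : IsIso δ := isIso_of_mono_of_epi δ
  haveI : IsIso ((colimit.isColimit (D F)).desc (cocone F)) := ‹IsIso δ›
  exact ⟨IsColimit.ofPointIso (colimit.isColimit (D F))⟩

end System

end Groth.Agent.Lib.Helper2.QcohExt
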