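import Mathlib
import Groth.Prelude.Def_Canon
import Groth.Agent.Lib.Helper7.MulSurj
import Groth.Agent.Lib.Helper7.RegRes
import Groth.Agent.Lib.Helper7.CohFinite

/-!
# Dévissage for the duality map of a candidate dualizing pair `(ω, tr)`
-/

set_option autoImplicit false
set_option linter.style.haveILetI false

universe u

open CategoryTheory CategoryTheory.Limits AlgebraicGeometry Opposite TopologicalSpace

namespace Groth.Agent.Lib.Helper2.QcohExt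

open Groth.Agent.Lib.Helper7.MulSurj Groth.Agent.Lib.Helper7.RegRes
  Groth.Agent.Lib.Helper7.CohFinite

variable (A : Type u) [CommRing A] {X : Scheme.{u}} [X.Over (Spec (CommRingCat.of A))]
  (r : ℕ) (ω : X.Modules) (tr : Coh.HH X ω r →ₗ[A] A)

/-- `G` satisfies duality with respect to `(ω, tr)`. -/
def IsDualAt (G : X.Modules) : Prop :=
  (∀ ψ : Coh.HH X G r →ₗ[A] A, ∃ φ : G ⟶ ω, ∀ x, ψ x = tr (Hm φ r x)) ∧
  (∀ φ : G ⟶ ω, (∀ x, tr (Hm φ r x) = 0) → φ = 0)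

variable {A r ω tr}

theorem isDualAt_of_bijective (G : X.Modules)
    (h : Function.Bijective (Canon.dualityMap A X r ω tr G)) : IsDualAt A r ω tr G := by
  constructor
  · intro ψ
    obtain ⟨φ, hφ⟩ := h.2 ψ
    exact ⟨φ, fun x => (LinearMap.congr_fun hφ x).symm⟩
  · intro φ hφ
    apply h.1
    apply LinearMap.ext
    intro x
    change tr (Hm φ r x) = tr (Hm (0 : G ⟶ ω) r x)
    rw [hφ x, Hm_zero, map_zero]

theorem IsDualAt.eq_of_eq {G : X.Modules} (h : IsDualAt A r ω tr G) (φ φ' : G ⟶ ω)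
    (hφ : ∀ x, tr (Hm φ r x) = tr (Hm φ' r x)) : φ = φ' := by
  have h0 := h.2 (φ - φ') (fun x => by
    have h1 := Hm_add (φ - φ') φ' r x
    rw [sub_add_cancel] at h1
    have h2 := hφ x
    rw [h1, map_add] at h2
    exact add_eq_right.mp h2)
  exact sub_eq_zero.mp h0

theorem isDualAt_of_iso {G G' : X.Modules} (e : G ≅ G') (h : IsDualAt A r ω tr G) :
    IsDualAt A r ω tr G' := by
  constructor
  · intro ψ
    obtain ⟨φ, hφ⟩ := h.1 (ψ ∘ₗ Canon.HHlin A e.hom r)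
    refine ⟨e.inv ≫ φ, fun x => ?_⟩
    rw [Hm_comp, ← hφ]
    change ψ x = ψ (Hm e.hom r (Hm e.inv r x))
    rw [← Hm_comp, e.inv_hom_id, Hm_id]
  · intro φ hφ
    have h1 : e.hom ≫ φ = 0 := h.2 _ (fun x => by rw [Hm_comp]; exact hφ _)
    exact (cancel_epi e.hom).mp (h1.trans comp_zero.symm)

theorem isDualAt_biprod (G G' : X.Modules) (hA : IsDualAt A r ω tr G)
    (hB : IsDualAt A r ω tr G') : IsDualAt A r ω tr (G ⊞ G') := by
  constructor
  · intro ψ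
    obtain ⟨φA, hφA⟩ := hA.1 (ψ ∘ₗ Canon.HHlin A (biprod.inl : G ⟶ G ⊞ G') r)
    obtain ⟨φB, hφB⟩ := hB.1 (ψ ∘ₗ Canon.HHlin A (biprod.inr : G' ⟶ G ⊞ G') r)
    refine ⟨biprod.desc φA φB, fun x => ?_⟩
    have hx : Hm (biprod.inl : G ⟶ G ⊞ G') r (Hm (biprod.fst : G ⊞ G' ⟶ G) r x) +
        Hm (biprod.inr : G' ⟶ G ⊞ G') r (Hm (biprod.snd : G ⊞ G' ⟶ G') r x) = x := by
      rw [← Hm_comp, ← Hm_comp, ← Hm_add, biprod.total, Hm_id]
    have hA' := hφA (Hm (biprod.fst : G ⊞ G' ⟶ G) r x)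
    have hB' := hφB (Hm (biprod.snd : G ⊞ G' ⟶ G') r x)
    have h1 : Hm (biprod.desc φA φB) r x =
        Hm φA r (Hm (biprod.fst : G ⊞ G' ⟶ G) r x) +
          Hm φB r (Hm (biprod.snd : G ⊞ G' ⟶ G') r x) := by
      have e1 := Hm_comp (biprod.inl : G ⟶ G ⊞ G') (biprod.desc φA φB) r
        (Hm (biprod.fst : G ⊞ G' ⟶ G) r x)
      have e2 := Hm_comp (biprod.inr : G' ⟶ G ⊞ G') (biprod.desc φA φB) r
        (Hm (biprod.snd : G ⊞ G' ⟶ G') r x)
      rw [biprod.inl_desc] at e1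
      rw [biprod.inr_desc] at e2
      rw [e1, e2, ← map_add, hx]
    have h2 : ψ x = ψ (Hm (biprod.inl : G ⟶ G ⊞ G') r (Hm (biprod.fst : G ⊞ G' ⟶ G) r x)) +
        ψ (Hm (biprod.inr : G' ⟶ G ⊞ G') r (Hm (biprod.snd : G ⊞ G' ⟶ G') r x)) := by
      rw [← map_add, hx]
    rw [h1, map_add, ← hA', ← hB', h2]
    rfl
  · intro φ hφ
    apply biprod.hom_ext'
    · rw [comp_zero]
      exact hA.2 _ (fun x => by rw [Hm_comp]; exact hφ _)
    · rw [comp_zero]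
      exact hB.2 _ (fun x => by rw [Hm_comp]; exact hφ _)

theorem isDualAt_powSum (L : X.Modules) (hL : IsDualAt A r ω tr L) :
    ∀ j, IsDualAt A r ω tr (powSum L j)
  | 0 => hL
  | j + 1 => isDualAt_biprod _ _ (isDualAt_powSum L hL j) hL

/-- injectivity of the duality map passes to quotients. -/
theorem inj_of_epi {E G : X.Modules} (π : E ⟶ G) [Epi π] (hE : IsDualAt A r ω tr E)
    (φ : G ⟶ ω) (hφ : ∀ x, tr (Hm φ r x) = 0) : φ = 0 := by
  have h2 : π ≫ φ = 0 := hE.2 _ (fun y => by rw [Hm_comp]; exact hφ _)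
  exact (cancel_epi π).mp (h2.trans comp_zero.symm)

/-- duality passes to a quotient `E ↠ G` when it is injective on the kernel and `H^r(E) → H^r(G)`
is surjective. -/
theorem isDualAt_of_epi {E G : X.Modules} (π : E ⟶ G) [Epi π] (hE : IsDualAt A r ω tr E)
    (hK : ∀ φ : kernel π ⟶ ω, (∀ x, tr (Hm φ r x) = 0) → φ = 0)
    (hsurj : ∀ x : Coh.HH X G r, ∃ y, Hm π r y = x) : IsDualAt A r ω tr G := by
  constructor
  · intro ψ
    obtain ⟨φ₀, hφ₀⟩ := hE.1 (ψ ∘ₗ Canon.HHlin A π r)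
    have hk : kernel.ι π ≫ φ₀ = 0 := hK _ (fun y => by
      rw [Hm_comp, ← hφ₀ (Hm (kernel.ι π) r y)]
      change ψ (Hm π r (Hm (kernel.ι π) r y)) = 0
      rw [← Hm_comp, kernel.condition, Hm_zero, map_zero])
    refine ⟨Abelian.epiDesc π φ₀ hk, fun x => ?_⟩
    obtain ⟨y, rfl⟩ := hsurj x
    rw [← Hm_comp, Abelian.comp_epiDesc, ← hφ₀ y]
    rfl
  · exact fun φ hφ => inj_of_epi π hE φ hφ

end Groth.Agent.Lib.Helper2.QcohExt
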