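import Mathlib
import Groth.Prelude.Def_Canon
import Groth.Agent.Lib.Helper2.QcohExt.HColim
import Groth.Agent.Lib.Helper2.QcohExt.CohSub

/-!
# Extension of a dualizing pair from coherent modules to quasi-coherent modules (qcqs scheme)
-/

set_option autoImplicit false
set_option linter.style.haveILetI false

universe u

open CategoryTheory CategoryTheory.Limits AlgebraicGeometry Opposite TopologicalSpace

namespace Groth.Agent.Lib.Helper2.QcohExt

open Groth.Agent.Lib.Helper7.MulSurj

variable (A : Type u) [CommRing A] (X : Scheme.{u}) [X.Over (Spec (CommRingCat.of A))]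
  [CompactSpace X] [QuasiSeparatedSpace X]

/-- **coherent ⇒ quasi-coherent.** If `(ω, tr)` satisfies duality on all finite-type quasi-coherent
modules of a qcqs scheme, it is an `r`-dualizing pair. -/
theorem isRDualOver_of_coh (r : ℕ) (ω : X.Modules) (hω : Coh.IsQCoh ω)
    (tr : Coh.HH X ω r →ₗ[A] A)
    (hex : ∀ G : X.Modules, Coh.IsCoh G → ∀ ψ : Coh.HH X G r →ₗ[A] A,
      ∃ φ : G ⟶ ω, ∀ x, ψ x = tr (Hm φ r x))
    (hinj : ∀ G : X.Modules, Coh.IsCoh G → ∀ φ φ' : G ⟶ ω,
      (∀ x, tr (Hm φ r x) = tr (Hm φ' r x)) → φ = φ') :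
    Canon.IsRDualOver A X r ω tr := by
  refine ⟨hω, fun F hF => ?_⟩
  haveI : F.IsQuasicoherent := hF
  obtain ⟨hc⟩ := nonempty_isColimit F
  constructor
  · -- injectivity
    intro φ φ' h
    apply hc.hom_ext
    intro S
    apply hinj _ (isCoh_D F S)
    intro x
    rw [Hm_comp, Hm_comp]
    exact LinearMap.congr_fun h (Hm ((cocone F).ι.app S) r x)
  · -- surjectivity
    intro g
    have hφ : ∀ S : Finset (Idx F), ∃ φ : (D F).obj S ⟶ ω,
        ∀ x, g (Hm ((cocone F).ι.app S) r x) = tr (Hm φ r x) := fun S =>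
      hex _ (isCoh_D F S) (g ∘ₗ Canon.HHlin A ((cocone F).ι.app S) r)
    choose φ hφ' using hφ
    let c' : Cocone (D F) :=
      { pt := ω
        ι :=
          { app := φ
            naturality := fun S T f => by
              dsimp
              rw [Category.comp_id]
              apply hinj _ (isCoh_D F S)
              intro x
              rw [Hm_comp, ← hφ', ← hφ', ← Hm_comp, (cocone F).w f] } }
    refine ⟨hc.desc c', ?_⟩
    apply LinearMap.ext
    intro x
    obtain ⟨S, y, rfl⟩ := exists_rep_H (D F) (cocone F) hc r x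
    change tr (Hm (hc.desc c') r (Hm ((cocone F).ι.app S) r y)) = _
    rw [← Hm_comp, hc.fac c' S]
    exact (hφ' S y).symm

end Groth.Agent.Lib.Helper2.QcohExt
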