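import Mathlib
import Groth.Agent.S0042
import Groth.Agent.Lib.Helper13.LerayCollapse

/-!
# Vanishing of `H^p(X, M)` above the fibre dimension (proper over a Noetherian affine base)
-/

set_option autoImplicit false
set_option linter.style.haveILetI false

universe u

open CategoryTheory CategoryTheory.Limits AlgebraicGeometry Opposite TopologicalSpace

namespace Groth.Agent.Lib.Helper2.QcohExt

variable (A : Type u) [CommRing A] [IsNoetherianRing A] (X : Scheme.{u})
  [X.Over (Spec (CommRingCat.of A))] [IsProper (X ↘ Spec (CommRingCat.of A))]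

theorem subsingleton_HH_of_fibre_dim (r : ℕ)
    (hfib : ∀ y : ↥(Spec (CommRingCat.of A)),
      topologicalKrullDim ↥((X ↘ Spec (CommRingCat.of A)).fiber y) ≤ (r : WithBot ℕ∞))
    (M : X.Modules) (hM : Coh.IsCoh M) (p : ℕ) (hp : r < p) :
    Subsingleton (Coh.HH X M p) := by
  haveI : M.IsQuasicoherent := hM.1
  obtain ⟨e⟩ := Groth.Agent.Lib.Helper13.LerayCollapse.nonempty_HH_equiv_sections
    (X ↘ Spec (CommRingCat.of A)) M p
  refine e.toEquiv.subsingleton_congr.2 ⟨fun s t => ?_⟩
  refine TopCat.Presheaf.section_ext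
    ((Coh.RpushAb (X ↘ Spec (CommRingCat.of A)) p).obj (Coh.toAb M)) ⊤ s t (fun y _ => ?_)
  have hz := Groth.Agent.S0042.result (X ↘ Spec (CommRingCat.of A)) y r (hfib y) M hM p hp
  haveI := AddCommGrpCat.subsingleton_of_isZero hz
  exact Subsingleton.elim _ _

end Groth.Agent.Lib.Helper2.QcohExt
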